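import Cfsg.Agent.JankoFour.ClassNumber.Data.Mats0
import Cfsg.Agent.JankoFour.ClassNumber.Data.Mats1
import Cfsg.Agent.JankoFour.ClassNumber.Data.Mats2
import Cfsg.Agent.JankoFour.ClassNumber.Data.Mats3
import Cfsg.Agent.JankoFour.ClassNumber.Data.Mats4
import Cfsg.Agent.JankoFour.ClassNumber.Data.Mats5
import Cfsg.Agent.JankoFour.ClassNumber.Data.Mats6
import Cfsg.Agent.JankoFour.ClassNumber.Data.Mats7
import Cfsg.Agent.JankoFour.ClassNumber.Data.Mats8
import Cfsg.Agent.JankoFour.ClassNumber.Data.Mats9
import Cfsg.Agent.JankoFour.ClassNumber.Data.Mats10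
import Cfsg.Agent.JankoFour.ClassNumber.Data.Mats11
import Cfsg.Agent.JankoFour.ClassNumber.Data.Mats12
import Cfsg.Agent.JankoFour.ClassNumber.Data.Mats13

/-!
The table of the matrices.
-/

set_option autoImplicit false
set_option maxRecDepth 20000

namespace Cfsg.Lib.JankoFour.ClassNumber

open Cfsg.Lib.J4Cert

def cnT0 : Tr (List ℕ) := (.node (.node (.node (.node (.leaf cmat0) (.leaf cmat512)) (.node (.leaf cmat256) (.leaf cmat768))) (.node (.node (.leaf cmat128) (.leaf cmat640)) (.node (.leaf cmat384) (.leaf cmat896)))) (.node (.node (.node (.leaf cmat64) (.leaf cmat576)) (.node (.leaf cmat320) (.leaf cmat832))) (.node (.node (.leaf cmat192) (.leaf cmat704)) (.node (.leaf cmat448) (.leaf cmat960)))))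

def cnT1 : Tr (List ℕ) := (.node cnT0 (.node (.node (.node (.node (.leaf cmat32) (.leaf cmat544)) (.node (.leaf cmat288) (.leaf cmat800))) (.node (.node (.leaf cmat160) (.leaf cmat672)) (.node (.leaf cmat416) (.leaf cmat928)))) (.node (.node (.node (.leaf cmat96) (.leaf cmat608)) (.node (.leaf cmat352) (.leaf cmat864))) (.node (.node (.leaf cmat224) (.leaf cmat736)) (.leaf cmat480)))))

def cnT2 : Tr (List ℕ) := (.node (.node (.node (.node (.leaf cmat16) (.leaf cmat528)) (.node (.leaf cmat272) (.leaf cmat784))) (.node (.node (.leaf cmat144) (.leaf cmat656)) (.node (.leaf cmat400) (.leaf cmat912)))) (.node (.node (.node (.leaf cmat80) (.leaf cmat592)) (.node (.leaf cmat336) (.leaf cmat848))) (.node (.node (.leaf cmat208) (.leaf cmat720)) (.node (.leaf cmat464) (.leaf cmat976)))))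

def cnT3 : Tr (List ℕ) := (.node cnT2 (.node (.node (.node (.node (.leaf cmat48) (.leaf cmat560)) (.node (.leaf cmat304) (.leaf cmat816))) (.node (.node (.leaf cmat176) (.leaf cmat688)) (.node (.leaf cmat432) (.leaf cmat944)))) (.node (.node (.node (.leaf cmat112) (.leaf cmat624)) (.node (.leaf cmat368) (.leaf cmat880))) (.node (.node (.leaf cmat240) (.leaf cmat752)) (.leaf cmat496)))))

def cnT4 : Tr (List ℕ) := (.node cnT1 cnT3)

def cnT5 : Tr (List ℕ) := (.node (.node (.node (.node (.leaf cmat8) (.leaf cmat520)) (.node (.leaf cmat264) (.leaf cmat776))) (.node (.node (.leaf cmat136) (.leaf cmat648)) (.node (.leaf cmat392) (.leaf cmat904)))) (.node (.node (.node (.leaf cmat72) (.leaf cmat584)) (.node (.leaf cmat328) (.leaf cmat840))) (.node (.node (.leaf cmat200) (.leaf cmat712)) (.node (.leaf cmat456) (.leaf cmat968)))))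

def cnT6 : Tr (List ℕ) := (.node cnT5 (.node (.node (.node (.node (.leaf cmat40) (.leaf cmat552)) (.node (.leaf cmat296) (.leaf cmat808))) (.node (.node (.leaf cmat168) (.leaf cmat680)) (.node (.leaf cmat424) (.leaf cmat936)))) (.node (.node (.node (.leaf cmat104) (.leaf cmat616)) (.node (.leaf cmat360) (.leaf cmat872))) (.node (.node (.leaf cmat232) (.leaf cmat744)) (.leaf cmat488)))))

def cnT7 : Tr (List ℕ) := (.node (.node (.node (.node (.node (.leaf cmat24) (.leaf cmat536)) (.node (.leaf cmat280) (.leaf cmat792))) (.node (.node (.leaf cmat152) (.leaf cmat664)) (.node (.leaf cmat408) (.leaf cmat920)))) (.node (.node (.node (.leaf cmat88) (.leaf cmat600)) (.node (.leaf cmat344) (.leaf cmat856))) (.node (.node (.leaf cmat216) (.leaf cmat728)) (.leaf cmat472)))) (.node (.node (.node (.node (.leaf cmat56) (.leaf cmat568)) (.node (.leaf cmat312) (.leaf cmat824))) (.node (.node (.leaf cmat184) (.leaf cmat696)) (.node (.leaf cmat440) (.leaf cmat952)))) (.node (.node (.node (.leaf cmat120) (.leaf cmat632)) (.node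 (.leaf cmat376) (.leaf cmat888))) (.node (.node (.leaf cmat248) (.leaf cmat760)) (.leaf cmat504)))))

def cnT8 : Tr (List ℕ) := (.node cnT6 cnT7)

def cnT9 : Tr (List ℕ) := (.node cnT4 cnT8)

def cnT10 : Tr (List ℕ) := (.node (.node (.node (.node (.leaf cmat4) (.leaf cmat516)) (.node (.leaf cmat260) (.leaf cmat772))) (.node (.node (.leaf cmat132) (.leaf cmat644)) (.node (.leaf cmat388) (.leaf cmat900)))) (.node (.node (.node (.leaf cmat68) (.leaf cmat580)) (.node (.leaf cmat324) (.leaf cmat836))) (.node (.node (.leaf cmat196) (.leaf cmat708)) (.node (.leaf cmat452) (.leaf cmat964)))))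

def cnT11 : Tr (List ℕ) := (.node cnT10 (.node (.node (.node (.node (.leaf cmat36) (.leaf cmat548)) (.node (.leaf cmat292) (.leaf cmat804))) (.node (.node (.leaf cmat164) (.leaf cmat676)) (.node (.leaf cmat420) (.leaf cmat932)))) (.node (.node (.node (.leaf cmat100) (.leaf cmat612)) (.node (.leaf cmat356) (.leaf cmat868))) (.node (.node (.leaf cmat228) (.leaf cmat740)) (.leaf cmat484)))))

def cnT12 : Tr (List ℕ) := (.node (.node (.node (.node (.node (.leaf cmat20) (.leaf cmat532)) (.node (.leaf cmat276) (.leaf cmat788))) (.node (.node (.leaf cmat148) (.leaf cmat660)) (.node (.leaf cmat404) (.leaf cmat916)))) (.node (.node (.node (.leaf cmat84) (.leaf cmat596)) (.node (.leaf cmat340) (.leaf cmat852))) (.node (.node (.leaf cmat212) (.leaf cmat724)) (.leaf cmat468)))) (.node (.node (.node (.node (.leaf cmat52) (.leaf cmat564)) (.node (.leaf cmat308) (.leaf cmat820))) (.node (.node (.leaf cmat180) (.leaf cmat692)) (.node (.leaf cmat436) (.leaf cmat948)))) (.node (.node (.node (.leaf cmat116) (.leaf cmat628)) (.node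 (.leaf cmat372) (.leaf cmat884))) (.node (.node (.leaf cmat244) (.leaf cmat756)) (.leaf cmat500)))))

def cnT13 : Tr (List ℕ) := (.node cnT11 cnT12)

def cnT14 : Tr (List ℕ) := (.node (.node (.node (.node (.leaf cmat12) (.leaf cmat524)) (.node (.leaf cmat268) (.leaf cmat780))) (.node (.node (.leaf cmat140) (.leaf cmat652)) (.node (.leaf cmat396) (.leaf cmat908)))) (.node (.node (.node (.leaf cmat76) (.leaf cmat588)) (.node (.leaf cmat332) (.leaf cmat844))) (.node (.node (.leaf cmat204) (.leaf cmat716)) (.node (.leaf cmat460) (.leaf cmat972)))))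

def cnT15 : Tr (List ℕ) := (.node cnT14 (.node (.node (.node (.node (.leaf cmat44) (.leaf cmat556)) (.node (.leaf cmat300) (.leaf cmat812))) (.node (.node (.leaf cmat172) (.leaf cmat684)) (.node (.leaf cmat428) (.leaf cmat940)))) (.node (.node (.node (.leaf cmat108) (.leaf cmat620)) (.node (.leaf cmat364) (.leaf cmat876))) (.node (.node (.leaf cmat236) (.leaf cmat748)) (.leaf cmat492)))))

def cnT16 : Tr (List ℕ) := (.node (.node (.node (.node (.node (.leaf cmat28) (.leaf cmat540)) (.node (.leaf cmat284) (.leaf cmat796))) (.node (.node (.leaf cmat156) (.leaf cmat668)) (.node (.leaf cmat412) (.leaf cmat924)))) (.node (.node (.node (.leaf cmat92) (.leaf cmat604)) (.node (.leaf cmat348) (.leaf cmat860))) (.node (.node (.leaf cmat220) (.leaf cmat732)) (.leaf cmat476)))) (.node (.node (.node (.node (.leaf cmat60) (.leaf cmat572)) (.node (.leaf cmat316) (.leaf cmat828))) (.node (.node (.leaf cmat188) (.leaf cmat700)) (.node (.leaf cmat444) (.leaf cmat956)))) (.node (.node (.node (.leaf cmat124) (.leaf cmat636)) (.node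 (.leaf cmat380) (.leaf cmat892))) (.node (.node (.leaf cmat252) (.leaf cmat764)) (.leaf cmat508)))))

def cnT17 : Tr (List ℕ) := (.node cnT15 cnT16)

def cnT18 : Tr (List ℕ) := (.node cnT13 cnT17)

def cnT19 : Tr (List ℕ) := (.node cnT9 cnT18)

def cnT20 : Tr (List ℕ) := (.node (.node (.node (.node (.leaf cmat2) (.leaf cmat514)) (.node (.leaf cmat258) (.leaf cmat770))) (.node (.node (.leaf cmat130) (.leaf cmat642)) (.node (.leaf cmat386) (.leaf cmat898)))) (.node (.node (.node (.leaf cmat66) (.leaf cmat578)) (.node (.leaf cmat322) (.leaf cmat834))) (.node (.node (.leaf cmat194) (.leaf cmat706)) (.node (.leaf cmat450) (.leaf cmat962)))))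

def cnT21 : Tr (List ℕ) := (.node cnT20 (.node (.node (.node (.node (.leaf cmat34) (.leaf cmat546)) (.node (.leaf cmat290) (.leaf cmat802))) (.node (.node (.leaf cmat162) (.leaf cmat674)) (.node (.leaf cmat418) (.leaf cmat930)))) (.node (.node (.node (.leaf cmat98) (.leaf cmat610)) (.node (.leaf cmat354) (.leaf cmat866))) (.node (.node (.leaf cmat226) (.leaf cmat738)) (.leaf cmat482)))))

def cnT22 : Tr (List ℕ) := (.node (.node (.node (.node (.leaf cmat18) (.leaf cmat530)) (.node (.leaf cmat274) (.leaf cmat786))) (.node (.node (.leaf cmat146) (.leaf cmat658)) (.node (.leaf cmat402) (.leaf cmat914)))) (.node (.node (.node (.leaf cmat82) (.leaf cmat594)) (.node (.leaf cmat338) (.leaf cmat850))) (.node (.node (.leaf cmat210) (.leaf cmat722)) (.node (.leaf cmat466) (.leaf cmat978)))))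

def cnT23 : Tr (List ℕ) := (.node cnT22 (.node (.node (.node (.node (.leaf cmat50) (.leaf cmat562)) (.node (.leaf cmat306) (.leaf cmat818))) (.node (.node (.leaf cmat178) (.leaf cmat690)) (.node (.leaf cmat434) (.leaf cmat946)))) (.node (.node (.node (.leaf cmat114) (.leaf cmat626)) (.node (.leaf cmat370) (.leaf cmat882))) (.node (.node (.leaf cmat242) (.leaf cmat754)) (.leaf cmat498)))))

def cnT24 : Tr (List ℕ) := (.node cnT21 cnT23)

def cnT25 : Tr (List ℕ) := (.node (.node (.node (.node (.leaf cmat10) (.leaf cmat522)) (.node (.leaf cmat266) (.leaf cmat778))) (.node (.node (.leaf cmat138) (.leaf cmat650)) (.node (.leaf cmat394) (.leaf cmat906)))) (.node (.node (.node (.leaf cmat74) (.leaf cmat586)) (.node (.leaf cmat330) (.leaf cmat842))) (.node (.node (.leaf cmat202) (.leaf cmat714)) (.node (.leaf cmat458) (.leaf cmat970)))))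

def cnT26 : Tr (List ℕ) := (.node cnT25 (.node (.node (.node (.node (.leaf cmat42) (.leaf cmat554)) (.node (.leaf cmat298) (.leaf cmat810))) (.node (.node (.leaf cmat170) (.leaf cmat682)) (.node (.leaf cmat426) (.leaf cmat938)))) (.node (.node (.node (.leaf cmat106) (.leaf cmat618)) (.node (.leaf cmat362) (.leaf cmat874))) (.node (.node (.leaf cmat234) (.leaf cmat746)) (.leaf cmat490)))))

def cnT27 : Tr (List ℕ) := (.node (.node (.node (.node (.node (.leaf cmat26) (.leaf cmat538)) (.node (.leaf cmat282) (.leaf cmat794))) (.node (.node (.leaf cmat154) (.leaf cmat666)) (.node (.leaf cmat410) (.leaf cmat922)))) (.node (.node (.node (.leaf cmat90) (.leaf cmat602)) (.node (.leaf cmat346) (.leaf cmat858))) (.node (.node (.leaf cmat218) (.leaf cmat730)) (.leaf cmat474)))) (.node (.node (.node (.node (.leaf cmat58) (.leaf cmat570)) (.node (.leaf cmat314) (.leaf cmat826))) (.node (.node (.leaf cmat186) (.leaf cmat698)) (.node (.leaf cmat442) (.leaf cmat954)))) (.node (.node (.node (.leaf cmat122) (.leaf cmat634)) (.node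 (.leaf cmat378) (.leaf cmat890))) (.node (.node (.leaf cmat250) (.leaf cmat762)) (.leaf cmat506)))))

def cnT28 : Tr (List ℕ) := (.node cnT26 cnT27)

def cnT29 : Tr (List ℕ) := (.node cnT24 cnT28)

def cnT30 : Tr (List ℕ) := (.node (.node (.node (.node (.leaf cmat6) (.leaf cmat518)) (.node (.leaf cmat262) (.leaf cmat774))) (.node (.node (.leaf cmat134) (.leaf cmat646)) (.node (.leaf cmat390) (.leaf cmat902)))) (.node (.node (.node (.leaf cmat70) (.leaf cmat582)) (.node (.leaf cmat326) (.leaf cmat838))) (.node (.node (.leaf cmat198) (.leaf cmat710)) (.node (.leaf cmat454) (.leaf cmat966)))))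

def cnT31 : Tr (List ℕ) := (.node cnT30 (.node (.node (.node (.node (.leaf cmat38) (.leaf cmat550)) (.node (.leaf cmat294) (.leaf cmat806))) (.node (.node (.leaf cmat166) (.leaf cmat678)) (.node (.leaf cmat422) (.leaf cmat934)))) (.node (.node (.node (.leaf cmat102) (.leaf cmat614)) (.node (.leaf cmat358) (.leaf cmat870))) (.node (.node (.leaf cmat230) (.leaf cmat742)) (.leaf cmat486)))))

def cnT32 : Tr (List ℕ) := (.node (.node (.node (.node (.node (.leaf cmat22) (.leaf cmat534)) (.node (.leaf cmat278) (.leaf cmat790))) (.node (.node (.leaf cmat150) (.leaf cmat662)) (.node (.leaf cmat406) (.leaf cmat918)))) (.node (.node (.node (.leaf cmat86) (.leaf cmat598)) (.node (.leaf cmat342) (.leaf cmat854))) (.node (.node (.leaf cmat214) (.leaf cmat726)) (.leaf cmat470)))) (.node (.node (.node (.node (.leaf cmat54) (.leaf cmat566)) (.node (.leaf cmat310) (.leaf cmat822))) (.node (.node (.leaf cmat182) (.leaf cmat694)) (.node (.leaf cmat438) (.leaf cmat950)))) (.node (.node (.node (.leaf cmat118) (.leaf cmat630)) (.node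 (.leaf cmat374) (.leaf cmat886))) (.node (.node (.leaf cmat246) (.leaf cmat758)) (.leaf cmat502)))))

def cnT33 : Tr (List ℕ) := (.node cnT31 cnT32)

def cnT34 : Tr (List ℕ) := (.node (.node (.node (.node (.leaf cmat14) (.leaf cmat526)) (.node (.leaf cmat270) (.leaf cmat782))) (.node (.node (.leaf cmat142) (.leaf cmat654)) (.node (.leaf cmat398) (.leaf cmat910)))) (.node (.node (.node (.leaf cmat78) (.leaf cmat590)) (.node (.leaf cmat334) (.leaf cmat846))) (.node (.node (.leaf cmat206) (.leaf cmat718)) (.node (.leaf cmat462) (.leaf cmat974)))))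

def cnT35 : Tr (List ℕ) := (.node cnT34 (.node (.node (.node (.node (.leaf cmat46) (.leaf cmat558)) (.node (.leaf cmat302) (.leaf cmat814))) (.node (.node (.leaf cmat174) (.leaf cmat686)) (.node (.leaf cmat430) (.leaf cmat942)))) (.node (.node (.node (.leaf cmat110) (.leaf cmat622)) (.node (.leaf cmat366) (.leaf cmat878))) (.node (.node (.leaf cmat238) (.leaf cmat750)) (.leaf cmat494)))))

def cnT36 : Tr (List ℕ) := (.node (.node (.node (.node (.node (.leaf cmat30) (.leaf cmat542)) (.node (.leaf cmat286) (.leaf cmat798))) (.node (.node (.leaf cmat158) (.leaf cmat670)) (.node (.leaf cmat414) (.leaf cmat926)))) (.node (.node (.node (.leaf cmat94) (.leaf cmat606)) (.node (.leaf cmat350) (.leaf cmat862))) (.node (.node (.leaf cmat222) (.leaf cmat734)) (.leaf cmat478)))) (.node (.node (.node (.node (.leaf cmat62) (.leaf cmat574)) (.node (.leaf cmat318) (.leaf cmat830))) (.node (.node (.leaf cmat190) (.leaf cmat702)) (.node (.leaf cmat446) (.leaf cmat958)))) (.node (.node (.node (.leaf cmat126) (.leaf cmat638)) (.node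 (.leaf cmat382) (.leaf cmat894))) (.node (.node (.leaf cmat254) (.leaf cmat766)) (.leaf cmat510)))))

def cnT37 : Tr (List ℕ) := (.node cnT35 cnT36)

def cnT38 : Tr (List ℕ) := (.node cnT33 cnT37)

def cnT39 : Tr (List ℕ) := (.node cnT29 cnT38)

def cnT40 : Tr (List ℕ) := (.node cnT19 cnT39)

def cnT41 : Tr (List ℕ) := (.node (.node (.node (.node (.leaf cmat1) (.leaf cmat513)) (.node (.leaf cmat257) (.leaf cmat769))) (.node (.node (.leaf cmat129) (.leaf cmat641)) (.node (.leaf cmat385) (.leaf cmat897)))) (.node (.node (.node (.leaf cmat65) (.leaf cmat577)) (.node (.leaf cmat321) (.leaf cmat833))) (.node (.node (.leaf cmat193) (.leaf cmat705)) (.node (.leaf cmat449) (.leaf cmat961)))))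

def cnT42 : Tr (List ℕ) := (.node cnT41 (.node (.node (.node (.node (.leaf cmat33) (.leaf cmat545)) (.node (.leaf cmat289) (.leaf cmat801))) (.node (.node (.leaf cmat161) (.leaf cmat673)) (.node (.leaf cmat417) (.leaf cmat929)))) (.node (.node (.node (.leaf cmat97) (.leaf cmat609)) (.node (.leaf cmat353) (.leaf cmat865))) (.node (.node (.leaf cmat225) (.leaf cmat737)) (.leaf cmat481)))))

def cnT43 : Tr (List ℕ) := (.node (.node (.node (.node (.leaf cmat17) (.leaf cmat529)) (.node (.leaf cmat273) (.leaf cmat785))) (.node (.node (.leaf cmat145) (.leaf cmat657)) (.node (.leaf cmat401) (.leaf cmat913)))) (.node (.node (.node (.leaf cmat81) (.leaf cmat593)) (.node (.leaf cmat337) (.leaf cmat849))) (.node (.node (.leaf cmat209) (.leaf cmat721)) (.node (.leaf cmat465) (.leaf cmat977)))))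

def cnT44 : Tr (List ℕ) := (.node cnT43 (.node (.node (.node (.node (.leaf cmat49) (.leaf cmat561)) (.node (.leaf cmat305) (.leaf cmat817))) (.node (.node (.leaf cmat177) (.leaf cmat689)) (.node (.leaf cmat433) (.leaf cmat945)))) (.node (.node (.node (.leaf cmat113) (.leaf cmat625)) (.node (.leaf cmat369) (.leaf cmat881))) (.node (.node (.leaf cmat241) (.leaf cmat753)) (.leaf cmat497)))))

def cnT45 : Tr (List ℕ) := (.node cnT42 cnT44)

def cnT46 : Tr (List ℕ) := (.node (.node (.node (.node (.leaf cmat9) (.leaf cmat521)) (.node (.leaf cmat265) (.leaf cmat777))) (.node (.node (.leaf cmat137) (.leaf cmat649)) (.node (.leaf cmat393) (.leaf cmat905)))) (.node (.node (.node (.leaf cmat73) (.leaf cmat585)) (.node (.leaf cmat329) (.leaf cmat841))) (.node (.node (.leaf cmat201) (.leaf cmat713)) (.node (.leaf cmat457) (.leaf cmat969)))))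

def cnT47 : Tr (List ℕ) := (.node cnT46 (.node (.node (.node (.node (.leaf cmat41) (.leaf cmat553)) (.node (.leaf cmat297) (.leaf cmat809))) (.node (.node (.leaf cmat169) (.leaf cmat681)) (.node (.leaf cmat425) (.leaf cmat937)))) (.node (.node (.node (.leaf cmat105) (.leaf cmat617)) (.node (.leaf cmat361) (.leaf cmat873))) (.node (.node (.leaf cmat233) (.leaf cmat745)) (.leaf cmat489)))))

def cnT48 : Tr (List ℕ) := (.node (.node (.node (.node (.node (.leaf cmat25) (.leaf cmat537)) (.node (.leaf cmat281) (.leaf cmat793))) (.node (.node (.leaf cmat153) (.leaf cmat665)) (.node (.leaf cmat409) (.leaf cmat921)))) (.node (.node (.node (.leaf cmat89) (.leaf cmat601)) (.node (.leaf cmat345) (.leaf cmat857))) (.node (.node (.leaf cmat217) (.leaf cmat729)) (.leaf cmat473)))) (.node (.node (.node (.node (.leaf cmat57) (.leaf cmat569)) (.node (.leaf cmat313) (.leaf cmat825))) (.node (.node (.leaf cmat185) (.leaf cmat697)) (.node (.leaf cmat441) (.leaf cmat953)))) (.node (.node (.node (.leaf cmat121) (.leaf cmat633)) (.node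 (.leaf cmat377) (.leaf cmat889))) (.node (.node (.leaf cmat249) (.leaf cmat761)) (.leaf cmat505)))))

def cnT49 : Tr (List ℕ) := (.node cnT47 cnT48)

def cnT50 : Tr (List ℕ) := (.node cnT45 cnT49)

def cnT51 : Tr (List ℕ) := (.node (.node (.node (.node (.leaf cmat5) (.leaf cmat517)) (.node (.leaf cmat261) (.leaf cmat773))) (.node (.node (.leaf cmat133) (.leaf cmat645)) (.node (.leaf cmat389) (.leaf cmat901)))) (.node (.node (.node (.leaf cmat69) (.leaf cmat581)) (.node (.leaf cmat325) (.leaf cmat837))) (.node (.node (.leaf cmat197) (.leaf cmat709)) (.node (.leaf cmat453) (.leaf cmat965)))))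

def cnT52 : Tr (List ℕ) := (.node cnT51 (.node (.node (.node (.node (.leaf cmat37) (.leaf cmat549)) (.node (.leaf cmat293) (.leaf cmat805))) (.node (.node (.leaf cmat165) (.leaf cmat677)) (.node (.leaf cmat421) (.leaf cmat933)))) (.node (.node (.node (.leaf cmat101) (.leaf cmat613)) (.node (.leaf cmat357) (.leaf cmat869))) (.node (.node (.leaf cmat229) (.leaf cmat741)) (.leaf cmat485)))))

def cnT53 : Tr (List ℕ) := (.node (.node (.node (.node (.node (.leaf cmat21) (.leaf cmat533)) (.node (.leaf cmat277) (.leaf cmat789))) (.node (.node (.leaf cmat149) (.leaf cmat661)) (.node (.leaf cmat405) (.leaf cmat917)))) (.node (.node (.node (.leaf cmat85) (.leaf cmat597)) (.node (.leaf cmat341) (.leaf cmat853))) (.node (.node (.leaf cmat213) (.leaf cmat725)) (.leaf cmat469)))) (.node (.node (.node (.node (.leaf cmat53) (.leaf cmat565)) (.node (.leaf cmat309) (.leaf cmat821))) (.node (.node (.leaf cmat181) (.leaf cmat693)) (.node (.leaf cmat437) (.leaf cmat949)))) (.node (.node (.node (.leaf cmat117) (.leaf cmat629)) (.node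 (.leaf cmat373) (.leaf cmat885))) (.node (.node (.leaf cmat245) (.leaf cmat757)) (.leaf cmat501)))))

def cnT54 : Tr (List ℕ) := (.node cnT52 cnT53)

def cnT55 : Tr (List ℕ) := (.node (.node (.node (.node (.leaf cmat13) (.leaf cmat525)) (.node (.leaf cmat269) (.leaf cmat781))) (.node (.node (.leaf cmat141) (.leaf cmat653)) (.node (.leaf cmat397) (.leaf cmat909)))) (.node (.node (.node (.leaf cmat77) (.leaf cmat589)) (.node (.leaf cmat333) (.leaf cmat845))) (.node (.node (.leaf cmat205) (.leaf cmat717)) (.node (.leaf cmat461) (.leaf cmat973)))))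

def cnT56 : Tr (List ℕ) := (.node cnT55 (.node (.node (.node (.node (.leaf cmat45) (.leaf cmat557)) (.node (.leaf cmat301) (.leaf cmat813))) (.node (.node (.leaf cmat173) (.leaf cmat685)) (.node (.leaf cmat429) (.leaf cmat941)))) (.node (.node (.node (.leaf cmat109) (.leaf cmat621)) (.node (.leaf cmat365) (.leaf cmat877))) (.node (.node (.leaf cmat237) (.leaf cmat749)) (.leaf cmat493)))))

def cnT57 : Tr (List ℕ) := (.node (.node (.node (.node (.node (.leaf cmat29) (.leaf cmat541)) (.node (.leaf cmat285) (.leaf cmat797))) (.node (.node (.leaf cmat157) (.leaf cmat669)) (.node (.leaf cmat413) (.leaf cmat925)))) (.node (.node (.node (.leaf cmat93) (.leaf cmat605)) (.node (.leaf cmat349) (.leaf cmat861))) (.node (.node (.leaf cmat221) (.leaf cmat733)) (.leaf cmat477)))) (.node (.node (.node (.node (.leaf cmat61) (.leaf cmat573)) (.node (.leaf cmat317) (.leaf cmat829))) (.node (.node (.leaf cmat189) (.leaf cmat701)) (.node (.leaf cmat445) (.leaf cmat957)))) (.node (.node (.node (.leaf cmat125) (.leaf cmat637)) (.node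 (.leaf cmat381) (.leaf cmat893))) (.node (.node (.leaf cmat253) (.leaf cmat765)) (.leaf cmat509)))))

def cnT58 : Tr (List ℕ) := (.node cnT56 cnT57)

def cnT59 : Tr (List ℕ) := (.node cnT54 cnT58)

def cnT60 : Tr (List ℕ) := (.node cnT50 cnT59)

def cnT61 : Tr (List ℕ) := (.node (.node (.node (.node (.leaf cmat3) (.leaf cmat515)) (.node (.leaf cmat259) (.leaf cmat771))) (.node (.node (.leaf cmat131) (.leaf cmat643)) (.node (.leaf cmat387) (.leaf cmat899)))) (.node (.node (.node (.leaf cmat67) (.leaf cmat579)) (.node (.leaf cmat323) (.leaf cmat835))) (.node (.node (.leaf cmat195) (.leaf cmat707)) (.node (.leaf cmat451) (.leaf cmat963)))))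

def cnT62 : Tr (List ℕ) := (.node cnT61 (.node (.node (.node (.node (.leaf cmat35) (.leaf cmat547)) (.node (.leaf cmat291) (.leaf cmat803))) (.node (.node (.leaf cmat163) (.leaf cmat675)) (.node (.leaf cmat419) (.leaf cmat931)))) (.node (.node (.node (.leaf cmat99) (.leaf cmat611)) (.node (.leaf cmat355) (.leaf cmat867))) (.node (.node (.leaf cmat227) (.leaf cmat739)) (.leaf cmat483)))))

def cnT63 : Tr (List ℕ) := (.node (.node (.node (.node (.leaf cmat19) (.leaf cmat531)) (.node (.leaf cmat275) (.leaf cmat787))) (.node (.node (.leaf cmat147) (.leaf cmat659)) (.node (.leaf cmat403) (.leaf cmat915)))) (.node (.node (.node (.leaf cmat83) (.leaf cmat595)) (.node (.leaf cmat339) (.leaf cmat851))) (.node (.node (.leaf cmat211) (.leaf cmat723)) (.node (.leaf cmat467) (.leaf cmat979)))))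

def cnT64 : Tr (List ℕ) := (.node cnT63 (.node (.node (.node (.node (.leaf cmat51) (.leaf cmat563)) (.node (.leaf cmat307) (.leaf cmat819))) (.node (.node (.leaf cmat179) (.leaf cmat691)) (.node (.leaf cmat435) (.leaf cmat947)))) (.node (.node (.node (.leaf cmat115) (.leaf cmat627)) (.node (.leaf cmat371) (.leaf cmat883))) (.node (.node (.leaf cmat243) (.leaf cmat755)) (.leaf cmat499)))))

def cnT65 : Tr (List ℕ) := (.node cnT62 cnT64)

def cnT66 : Tr (List ℕ) := (.node (.node (.node (.node (.leaf cmat11) (.leaf cmat523)) (.node (.leaf cmat267) (.leaf cmat779))) (.node (.node (.leaf cmat139) (.leaf cmat651)) (.node (.leaf cmat395) (.leaf cmat907)))) (.node (.node (.node (.leaf cmat75) (.leaf cmat587)) (.node (.leaf cmat331) (.leaf cmat843))) (.node (.node (.leaf cmat203) (.leaf cmat715)) (.node (.leaf cmat459) (.leaf cmat971)))))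

def cnT67 : Tr (List ℕ) := (.node cnT66 (.node (.node (.node (.node (.leaf cmat43) (.leaf cmat555)) (.node (.leaf cmat299) (.leaf cmat811))) (.node (.node (.leaf cmat171) (.leaf cmat683)) (.node (.leaf cmat427) (.leaf cmat939)))) (.node (.node (.node (.leaf cmat107) (.leaf cmat619)) (.node (.leaf cmat363) (.leaf cmat875))) (.node (.node (.leaf cmat235) (.leaf cmat747)) (.leaf cmat491)))))

def cnT68 : Tr (List ℕ) := (.node (.node (.node (.node (.node (.leaf cmat27) (.leaf cmat539)) (.node (.leaf cmat283) (.leaf cmat795))) (.node (.node (.leaf cmat155) (.leaf cmat667)) (.node (.leaf cmat411) (.leaf cmat923)))) (.node (.node (.node (.leaf cmat91) (.leaf cmat603)) (.node (.leaf cmat347) (.leaf cmat859))) (.node (.node (.leaf cmat219) (.leaf cmat731)) (.leaf cmat475)))) (.node (.node (.node (.node (.leaf cmat59) (.leaf cmat571)) (.node (.leaf cmat315) (.leaf cmat827))) (.node (.node (.leaf cmat187) (.leaf cmat699)) (.node (.leaf cmat443) (.leaf cmat955)))) (.node (.node (.node (.leaf cmat123) (.leaf cmat635)) (.node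 (.leaf cmat379) (.leaf cmat891))) (.node (.node (.leaf cmat251) (.leaf cmat763)) (.leaf cmat507)))))

def cnT69 : Tr (List ℕ) := (.node cnT67 cnT68)

def cnT70 : Tr (List ℕ) := (.node cnT65 cnT69)

def cnT71 : Tr (List ℕ) := (.node (.node (.node (.node (.leaf cmat7) (.leaf cmat519)) (.node (.leaf cmat263) (.leaf cmat775))) (.node (.node (.leaf cmat135) (.leaf cmat647)) (.node (.leaf cmat391) (.leaf cmat903)))) (.node (.node (.node (.leaf cmat71) (.leaf cmat583)) (.node (.leaf cmat327) (.leaf cmat839))) (.node (.node (.leaf cmat199) (.leaf cmat711)) (.node (.leaf cmat455) (.leaf cmat967)))))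

def cnT72 : Tr (List ℕ) := (.node cnT71 (.node (.node (.node (.node (.leaf cmat39) (.leaf cmat551)) (.node (.leaf cmat295) (.leaf cmat807))) (.node (.node (.leaf cmat167) (.leaf cmat679)) (.node (.leaf cmat423) (.leaf cmat935)))) (.node (.node (.node (.leaf cmat103) (.leaf cmat615)) (.node (.leaf cmat359) (.leaf cmat871))) (.node (.node (.leaf cmat231) (.leaf cmat743)) (.leaf cmat487)))))

def cnT73 : Tr (List ℕ) := (.node (.node (.node (.node (.node (.leaf cmat23) (.leaf cmat535)) (.node (.leaf cmat279) (.leaf cmat791))) (.node (.node (.leaf cmat151) (.leaf cmat663)) (.node (.leaf cmat407) (.leaf cmat919)))) (.node (.node (.node (.leaf cmat87) (.leaf cmat599)) (.node (.leaf cmat343) (.leaf cmat855))) (.node (.node (.leaf cmat215) (.leaf cmat727)) (.leaf cmat471)))) (.node (.node (.node (.node (.leaf cmat55) (.leaf cmat567)) (.node (.leaf cmat311) (.leaf cmat823))) (.node (.node (.leaf cmat183) (.leaf cmat695)) (.node (.leaf cmat439) (.leaf cmat951)))) (.node (.node (.node (.leaf cmat119) (.leaf cmat631)) (.node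 (.leaf cmat375) (.leaf cmat887))) (.node (.node (.leaf cmat247) (.leaf cmat759)) (.leaf cmat503)))))

def cnT74 : Tr (List ℕ) := (.node cnT72 cnT73)

def cnT75 : Tr (List ℕ) := (.node (.node (.node (.node (.leaf cmat15) (.leaf cmat527)) (.node (.leaf cmat271) (.leaf cmat783))) (.node (.node (.leaf cmat143) (.leaf cmat655)) (.node (.leaf cmat399) (.leaf cmat911)))) (.node (.node (.node (.leaf cmat79) (.leaf cmat591)) (.node (.leaf cmat335) (.leaf cmat847))) (.node (.node (.leaf cmat207) (.leaf cmat719)) (.node (.leaf cmat463) (.leaf cmat975)))))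

def cnT76 : Tr (List ℕ) := (.node cnT75 (.node (.node (.node (.node (.leaf cmat47) (.leaf cmat559)) (.node (.leaf cmat303) (.leaf cmat815))) (.node (.node (.leaf cmat175) (.leaf cmat687)) (.node (.leaf cmat431) (.leaf cmat943)))) (.node (.node (.node (.leaf cmat111) (.leaf cmat623)) (.node (.leaf cmat367) (.leaf cmat879))) (.node (.node (.leaf cmat239) (.leaf cmat751)) (.leaf cmat495)))))

def cnT77 : Tr (List ℕ) := (.node (.node (.node (.node (.node (.leaf cmat31) (.leaf cmat543)) (.node (.leaf cmat287) (.leaf cmat799))) (.node (.node (.leaf cmat159) (.leaf cmat671)) (.node (.leaf cmat415) (.leaf cmat927)))) (.node (.node (.node (.leaf cmat95) (.leaf cmat607)) (.node (.leaf cmat351) (.leaf cmat863))) (.node (.node (.leaf cmat223) (.leaf cmat735)) (.leaf cmat479)))) (.node (.node (.node (.node (.leaf cmat63) (.leaf cmat575)) (.node (.leaf cmat319) (.leaf cmat831))) (.node (.node (.leaf cmat191) (.leaf cmat703)) (.node (.leaf cmat447) (.leaf cmat959)))) (.node (.node (.node (.leaf cmat127) (.leaf cmat639)) (.node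 (.leaf cmat383) (.leaf cmat895))) (.node (.node (.leaf cmat255) (.leaf cmat767)) (.leaf cmat511)))))

def cnT78 : Tr (List ℕ) := (.node cnT76 cnT77)

def cnT79 : Tr (List ℕ) := (.node cnT74 cnT78)

def cnT80 : Tr (List ℕ) := (.node cnT70 cnT79)

def cnT81 : Tr (List ℕ) := (.node cnT60 cnT80)

def cnT82 : Tr (List ℕ) := (.node cnT40 cnT81)

def cnTab : Tr (List ℕ) := cnT82

/-- The matrix with the given number. -/
def cm (j : ℕ) : List ℕ := cnTab.get j

/-- The number of pairs. -/
def cN : ℕ := 490

end Cfsg.Lib.JankoFour.ClassNumber
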