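import Cfsg.Agent.J4Cert.Walk

/-!
An invariant space and the action of letters on it.
-/

set_option autoImplicit false
set_option maxRecDepth 20000

namespace Cfsg.Lib.JankoFour.ClassNumber

def basB : List ℕ := [0xffffffff, 0xff66999999, 0x3cf00333cc3cc, 0xcff3f0c0ccfcf, 0xff0333300ffcccc, 0x198f6a43d4af43539374e8, 0x1e419ca41c46c3b676e6283, 0x2ca675fd7f1433a3c568bd2, 0xc4a68f56225e36748880022, 0x1440e6ceb000e80c22b017c4]

def pinvB : List ℕ := [0, 0, 0, 0, 0, 0, 0, 0, 0, 0, 0, 0, 0, 0, 0, 0, 0, 0, 0, 0, 0, 0, 0, 0, 0, 0, 0, 0, 0, 0, 0, 1, 0, 0, 0, 0, 0, 0, 0, 2, 0, 0, 0, 0, 0, 0, 0, 0, 0, 4, 0, 8, 0, 0, 0, 0, 0, 0, 0, 16, 0, 0, 0, 0, 0, 0, 0, 0, 0, 0, 0, 0, 0, 0, 0, 0, 0, 0, 0, 0, 0, 0, 0, 0, 32, 0, 0, 0, 64, 128, 0, 256, 512, 0, 0, 0, 0, 0, 0, 0, 0, 0, 0, 0, 0, 0, 0, 0, 0, 0, 0, 0]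

/-- The rows of the letters. -/
def actB : ℕ → List ℕ := fun j =>
  bif Nat.beq j 6 then [393, 873, 874, 994, 631, 718, 763, 234, 61, 633] else
  bif Nat.beq j 7 then [810, 812, 92, 352, 293, 563, 403, 364, 807, 719] else
  bif Nat.beq j 8 then [218, 69, 151, 352, 433, 757, 421, 929, 981, 213] else
  bif Nat.beq j 9 then [818, 812, 536, 7, 584, 248, 296, 74, 472, 728] else
  bif Nat.beq j 12 then [1, 2, 4, 8, 16, 32, 64, 128, 256, 512] else
  bif Nat.beq j 13 then [1, 2, 4, 8, 16, 32, 64, 128, 256, 512] else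
  bif Nat.beq j 22 then [1, 2, 4, 8, 16, 32, 64, 128, 256, 512] else
  bif Nat.beq j 23 then [1, 2, 4, 8, 16, 32, 64, 128, 256, 512] else
  bif Nat.beq j 916 then [208, 2, 436, 133, 312, 857, 346, 295, 426, 933] else
  bif Nat.beq j 917 then [404, 2, 744, 392, 614, 321, 275, 884, 703, 502] else
  bif Nat.beq j 918 then [1, 2, 4, 8, 16, 32, 64, 128, 256, 512] else
  bif Nat.beq j 919 then [1, 2, 4, 8, 16, 32, 64, 128, 256, 512] else
  bif Nat.beq j 920 then [1, 2, 4, 8, 16, 32, 64, 128, 256, 512] else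
  bif Nat.beq j 921 then [1, 2, 4, 8, 16, 32, 64, 128, 256, 512] else
  bif Nat.beq j 922 then [1, 2, 4, 8, 16, 32, 64, 128, 256, 512] else
  bif Nat.beq j 923 then [1, 2, 4, 8, 16, 32, 64, 128, 256, 512] else
  bif Nat.beq j 924 then [108, 271, 105, 360, 786, 320, 64, 1007, 96, 621] else
  bif Nat.beq j 925 then [108, 271, 105, 360, 786, 320, 64, 1007, 96, 621] else
  bif Nat.beq j 926 then [961, 841, 305, 767, 430, 802, 890, 747, 68, 836] else
  bif Nat.beq j 927 then [656, 527, 378, 488, 498, 303, 122, 491, 585, 329] else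
  bif Nat.beq j 928 then [1, 2, 4, 8, 16, 32, 64, 128, 256, 512] else
  bif Nat.beq j 929 then [1, 2, 4, 8, 16, 32, 64, 128, 256, 512] else
  bif Nat.beq j 930 then [473, 527, 219, 746, 83, 566, 49, 840, 931, 929] else
  bif Nat.beq j 931 then [452, 768, 744, 98, 383, 251, 939, 118, 773, 76] else
  bif Nat.beq j 932 then [1, 2, 4, 8, 16, 32, 64, 128, 256, 512] else
  bif Nat.beq j 933 then [1, 2, 4, 8, 16, 32, 64, 128, 256, 512] else
  bif Nat.beq j 934 then [1, 2, 4, 8, 16, 32, 64, 128, 256, 512] else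
  bif Nat.beq j 935 then [1, 2, 4, 8, 16, 32, 64, 128, 256, 512] else
  bif Nat.beq j 936 then [1, 2, 4, 8, 16, 32, 64, 128, 256, 512] else
  bif Nat.beq j 937 then [1, 2, 4, 8, 16, 32, 64, 128, 256, 512] else
  bif Nat.beq j 938 then [462, 841, 634, 187, 428, 34, 817, 173, 836, 68] else
  bif Nat.beq j 939 then [473, 527, 561, 746, 182, 559, 49, 941, 329, 585] else
  bif Nat.beq j 418 then [325, 2, 521, 65, 543, 800, 333, 710, 512, 256] else
  []

end Cfsg.Lib.JankoFour.ClassNumber
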