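import Cfsg.Agent.J4Cert.Walk

/-!
An invariant space and the action of letters on it.
-/

set_option autoImplicit false
set_option maxRecDepth 20000

namespace Cfsg.Lib.JankoFour.ClassNumber

def basC : List ℕ := [0x4c4a39c330087e248e2aa, 0x5101a5f9627c8de076aee9, 0x1aa8c53c74e43cc5fc5e42d, 0x29b33a3966f225c9f5c5941, 0xc2a8af5ac69311cef80a2d0, 0x16248aa092da34c1105f742e5b, 0x2dd02856dc1f75b5d3969180a3, 0xb05c0b862508c329a116c93989d, 0x1000109bba9393f72fc1fb165cf1, 0x2008e40a1b6cec83f3e0db6eb56e, 0x40001008d5693c376a13e9bc6a69, 0x8008f01083392679c248e300a00a]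

def pinvC : List ℕ := [0, 0, 0, 0, 0, 0, 0, 0, 0, 0, 0, 0, 0, 0, 0, 0, 0, 0, 0, 0, 0, 0, 0, 0, 0, 0, 0, 0, 0, 0, 0, 0, 0, 0, 0, 0, 0, 0, 0, 0, 0, 0, 0, 0, 0, 0, 0, 0, 0, 0, 0, 0, 0, 0, 0, 0, 0, 0, 0, 0, 0, 0, 0, 0, 0, 0, 0, 0, 0, 0, 0, 0, 0, 0, 0, 0, 0, 0, 0, 0, 0, 0, 1, 0, 0, 0, 2, 0, 4, 8, 0, 16, 0, 0, 0, 0, 0, 0, 0, 0, 32, 64, 0, 0, 0, 0, 0, 128, 256, 512, 1024, 2048]

/-- The rows of the letters. -/
def actC : ℕ → List ℕ := fun j =>
  bif Nat.beq j 52 then [1206, 1955, 6, 1976, 1191, 3749, 3904, 2852, 2851, 3345, 1814, 427] else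
  bif Nat.beq j 53 then [388, 1968, 1972, 1963, 405, 2700, 4047, 2347, 2616, 3486, 567, 2590] else
  bif Nat.beq j 58 then [2666, 205, 514, 2923, 2683, 3630, 3401, 474, 2790, 2277, 1431, 2718] else
  bif Nat.beq j 59 then [772, 3651, 3549, 1957, 789, 4023, 519, 2937, 781, 3655, 4091, 2576] else
  bif Nat.beq j 64 then [1400, 1776, 345, 1252, 1385, 1536, 3147, 3394, 3289, 1507, 3889, 2007] else
  bif Nat.beq j 65 then [4060, 1121, 2612, 3229, 4045, 2570, 3849, 2796, 897, 1523, 1491, 3514] else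
  bif Nat.beq j 70 then [20, 11, 6, 22, 5, 767, 3053, 3354, 2722, 976, 1415, 2818] else
  bif Nat.beq j 71 then [29, 9, 13, 22, 12, 3567, 3727, 2863, 4032, 2156, 246, 4005] else
  bif Nat.beq j 76 then [388, 1968, 1972, 1963, 405, 2717, 4047, 2347, 2616, 3486, 550, 2575] else
  bif Nat.beq j 77 then [1206, 1955, 6, 1976, 1191, 3764, 3904, 2852, 2851, 3345, 1799, 442] else
  bif Nat.beq j 82 then [2147, 602, 139, 1334, 2162, 766, 969, 2620, 1916, 2796, 3769, 2564] else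
  bif Nat.beq j 83 then [283, 2351, 408, 3392, 266, 1226, 1786, 1392, 3084, 925, 371, 2565] else
  bif Nat.beq j 422 then [711, 859, 394, 735, 726, 39, 2788, 270, 142, 3069, 3747, 506] else
  []

end Cfsg.Lib.JankoFour.ClassNumber
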